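import Groth.Agent.TorusArtin.Lift
import Groth.Agent.TorusField.Main
import Groth.Agent.AlgSpGrp.Artin
import Groth.Agent.RedImage.Proper
import Groth.Agent.MaxTorCent.Basic
import Groth.Agent.SolvGrp.BC
import Groth.Agent.RedRank.Comm

/-!
# Maximal tori over artinian local rings
-/

set_option backward.isDefEq.respectTransparency false
set_option backward.isDefEq.respectTransparency.types false
set_option linter.style.haveILetI false
set_option autoImplicit false
set_option maxHeartbeats 1000000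
set_option synthInstance.maxHeartbeats 200000

universe u

open CategoryTheory Limits MonoidalCategory CartesianMonoidalCategory MonObj AlgebraicGeometry

namespace Groth.Agent.TorusArtin

open GrpSchLib GrpLimLib

variable {A : Type u} [CommRing A] [IsArtinianRing A] [IsLocalRing A]

/-- A smooth group of finite type over an artinian local ring has a maximal torus. -/
theorem exists_isMaximalTorus (G : Over (Spec (CommRingCat.of A))) [GrpObj G] [Smooth G.hom] [QuasiCompact G.hom] :
    ∃ (T : Over (Spec (CommRingCat.of A))) (_ : GrpObj T) (i : T ⟶ G), Red.IsMaximalTorus i := by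
  let J := IsLocalRing.maximalIdeal A
  letI : Field (A ⧸ J) := Ideal.Quotient.field J
  have hJ : IsNilpotent J := by
    show IsNilpotent (IsLocalRing.maximalIdeal A)
    rw [← IsLocalRing.jacobson_eq_maximalIdeal ⊥ bot_ne_top]
    exact IsArtinianRing.isNilpotent_jacobson_bot
  have hnil : ∀ x ∈ J, IsNilpotent x := fun x hx => by
    obtain ⟨n, hn⟩ := hJ
    exact ⟨n, by simpa [hn] using Ideal.pow_mem_pow hx n⟩
  let q := Spec.map (CommRingCat.ofHom (Ideal.Quotient.mk J))
  haveI : Surjective q :=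
    ⟨(PrimeSpectrum.comap_quotientMk_bijective_of_le_nilradical fun x hx => mem_nilradical.mpr (hnil x hx)).2⟩
  haveI := RedImage.isSeparated_artinian G
  haveI : Smooth (Red.bc q G).hom := inferInstanceAs (Smooth (pullback.snd G.hom q))
  haveI : QuasiCompact (Red.bc q G).hom := inferInstanceAs (QuasiCompact (pullback.snd G.hom q))
  haveI : IsSeparated (Red.bc q G).hom := inferInstanceAs (IsSeparated (pullback.snd G.hom q))
  obtain ⟨T₀, _, i₀, hT₀⟩ := TorusField.exists_isMaximalTorus (Red.bc q G)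
  haveI := hT₀.1; haveI := hT₀.2.1
  obtain ⟨haT, hsT, -⟩ := AGFLib.QuasiComp.torus_props hT₀.2.2.1
  haveI := haT; haveI := hsT
  haveI : QuasiCompact i₀.left := by
    haveI : QuasiCompact (i₀.left ≫ (Red.bc q G).hom) := by rw [Over.w]; infer_instance
    exact QuasiCompact.of_comp i₀.left (Red.bc q G).hom
  haveI : IsClosedImmersion i₀.left := AlgSpGrp.isClosedImmersion_of_mono i₀
  obtain ⟨T, _, i, hi, him, hT, φ, hφ⟩ := exists_torus_lift J hJ G T₀ hT₀.2.2.1 i₀
  haveI := hi; haveI := him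
  refine ⟨T, inferInstance, i, (MaxTorusBC.isMaximalTorus_iff hT).2 fun s => ?_⟩
  obtain ⟨s₀, hs₀⟩ := q.surjective s
  let b := Red.geomPt s₀ ≫ q
  refine (MaxTorusBC.max_geom_iff i hT b s ?_).1 ((MaxTorusBC.max_cmp_iff rfl i).1 ?_)
  · rw [Scheme.Hom.comp_apply, TorusQI.geomPt_closedPoint, hs₀]
  · haveI : IsMonHom (Iso.refl (Red.geomFibre s₀ (Red.bc q G))).inv := inferInstanceAs (IsMonHom (𝟙 _))
    exact MaxTorusBC.Max.of_iso (hT₀.2.2.2 s₀) ((Over.pullback (Red.geomPt s₀)).mapIso φ.symm)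
      (Iso.refl _) (by
        rw [← hφ, Functor.map_comp, Iso.refl_hom, Category.comp_id, Functor.mapIso_hom, ← Category.assoc,
          ← Functor.map_comp, Iso.symm_hom, Iso.inv_hom_id, CategoryTheory.Functor.map_id, Category.id_comp])

/-- A subtorus lies in a maximal torus. -/
theorem exists_maximal_ge (G : Over (Spec (CommRingCat.of A))) [GrpObj G] [Smooth G.hom] [QuasiCompact G.hom]
    (R : Over (Spec (CommRingCat.of A))) [GrpObj R] (j : R ⟶ G) [IsMonHom j] [Mono j] (hR : Red.IsTorus R) :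
    ∃ (T : Over (Spec (CommRingCat.of A))) (_ : GrpObj T) (i : T ⟶ G) (f : R ⟶ T),
      Red.IsMaximalTorus i ∧ f ≫ i = j := by
  haveI := RedImage.isSeparated_artinian G
  have hRm := TorusQI.isMultTypeFT_of_isTorus hR
  obtain ⟨C, _, c, hC, hcc, hCs⟩ := MaxTorCent.exists_centralizer j hRm
  haveI := hC.1; haveI := hC.2.1; haveI := hcc; haveI := hCs
  haveI : QuasiCompact C.hom := by rw [← Over.w c]; infer_instance
  haveI : IsSeparated C.hom := by rw [← Over.w c]; infer_instance
  obtain ⟨r, hr⟩ := (hC.2.2 R j).2 fun X x h => by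
    rw [← MonObj.mul_comp, ← MonObj.mul_comp, MultTypeComm.points_comm hRm x h]
  haveI : IsMonHom r := MaxTorusBC.isMonHom_of_mono r c (by rw [hr]; infer_instance)
  haveI : Mono r := by
    haveI : Mono (r ≫ c) := by rw [hr]; infer_instance
    exact mono_of_mono r c
  obtain ⟨T, _, t, ht⟩ := exists_isMaximalTorus C
  haveI := ht.1; haveI := ht.2.1
  have hcomm : ∀ {Y : Over (Spec (CommRingCat.of A))} (x : Y ⟶ T) (y : Y ⟶ R),
      (x ≫ t) * (y ≫ r) = (y ≫ r) * (x ≫ t) := fun {Y} x y => by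
    rw [← cancel_mono c, MonObj.mul_comp, MonObj.mul_comp, Category.assoc y r c, hr]
    simpa using (hC.2.2 Y ((x ≫ t) ≫ c)).1 ⟨_, rfl⟩ Y (𝟙 Y) y
  let u : T ⊗ R ⟶ C := (fst T R ≫ t) * (snd T R ≫ r)
  haveI : IsMonHom u := TorusQI.isMonHom_of_pts u fun Y x y => by
    simp only [u, MonObj.comp_mul, MonObj.mul_comp _ _ (fst T R), MonObj.mul_comp _ _ (snd T R),
      ← Category.assoc, MonObj.mul_comp]
    rw [_root_.mul_assoc, ← _root_.mul_assoc ((y ≫ fst T R) ≫ t), hcomm, _root_.mul_assoc, ← _root_.mul_assoc]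
  obtain ⟨Q, iQ, jQ, p, hQ, hjm, hjmono, hpm, -, hpj⟩ :=
    MultTypeImage.exists_torus_image (RedRank.isTorus_prod ht.2.2.1 hR) u
  haveI := hjm; haveI := hjmono; haveI := hpm
  let a : T ⟶ Q := lift (𝟙 T) 1 ≫ p
  have ha : a ≫ jQ = t := by
    simp only [a, Category.assoc, hpj, u, MonObj.comp_mul, lift_fst_assoc, lift_snd_assoc, Category.id_comp,
      MonObj.one_comp r, _root_.mul_one]
  haveI : IsMonHom a := MaxTorusBC.isMonHom_of_mono a jQ (by rw [ha]; infer_instance)
  haveI : IsIso a := TorusQI.isIso_of_geomFibres (TorusQI.isMultTypeFT_of_isTorus ht.2.2.1)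
    (TorusQI.isMultTypeFT_of_isTorus hQ) a fun s => by
      haveI : (Over.pullback (Red.geomPt s)).IsRightAdjoint := (Over.mapPullbackAdj (Red.geomPt s)).isRightAdjoint
      exact ht.2.2.2 s _ ((Over.pullback (Red.geomPt s)).map jQ) _ (SolvGrp.isTorus_bc _ hQ)
        (by rw [← Functor.map_comp, ha])
  let ρ : R ⟶ T := lift 1 (𝟙 R) ≫ p ≫ inv a
  have hρ : ρ ≫ t = r := by
    have hinv : inv a ≫ t = jQ := by rw [IsIso.inv_comp_eq]; exact ha.symm
    simp only [ρ, Category.assoc, hinv, hpj, u, MonObj.comp_mul, lift_fst_assoc, lift_snd_assoc, Category.id_comp,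
      MonObj.one_comp t, _root_.one_mul]
  refine ⟨T, inferInstance, t ≫ c, ρ, ⟨inferInstance, inferInstance, ht.2.2.1, fun s T' _ j' _ _ f hT' hf => ?_⟩,
    by rw [← Category.assoc, hρ, hr]⟩
  let b := Red.geomPt s
  let F := Over.pullback b
  have hCb := SolvGrp.isCentralizerOf_bc b j c hC
  haveI := hCb.1; haveI := hCb.2.1
  obtain ⟨z, hz⟩ := (hCb.2.2 T' j').2 fun X x h => by
    have h' : h ≫ F.map j = (h ≫ F.map ρ ≫ f) ≫ j' := by
      rw [Category.assoc, Category.assoc, hf, ← Functor.map_comp, ← Category.assoc ρ, hρ, hr]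
    rw [h', ← MonObj.mul_comp, ← MonObj.mul_comp,
      MultTypeComm.points_comm (TorusQI.isMultTypeFT_of_isTorus hT') x (h ≫ F.map ρ ≫ f)]
  haveI : IsMonHom z := MaxTorusBC.isMonHom_of_mono z (F.map c) (by rw [hz]; infer_instance)
  haveI : Mono (z ≫ F.map c) := by rw [hz]; infer_instance
  haveI : Mono z := mono_of_mono z (F.map c)
  exact ht.2.2.2 s T' z f hT' (by rw [← cancel_mono (F.map c), Category.assoc, hz, hf, Functor.map_comp])

end Groth.Agent.TorusArtin
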