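import Groth.Agent.TorusArtin.Lift
import Groth.Agent.MultTypeImage.Image
import Groth.Agent.SubgroupNbhd.Contain
import Groth.Agent.MaxTorusBC.Basic

/-!
# Gluing subtori given on the pieces of a disjoint open covering
-/

universe u

open CategoryTheory CategoryTheory.Limits MonoidalCategory CartesianMonoidalCategory MonObj GrpObj AlgebraicGeometry

namespace Groth.Agent.TorusArtin

open GrpSchLib DSPtsLib

set_option backward.isDefEq.respectTransparency.types false
set_option linter.style.haveILetI false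
set_option autoImplicit false
set_option maxHeartbeats 800000

variable {S : Scheme.{u}} {H : Over S} [GrpObj H] {κ : Type u} {U : κ → Scheme.{u}} (u : ∀ s, U s ⟶ S)

/-- Points whose restrictions to all pieces lie in the given subschemes. -/
def InPieces {T : ∀ s, Over (U s)} (t : ∀ s, T s ⟶ Red.bc (u s) H) {Y₀ : Scheme.{u}} (c : Y₀ ⟶ H.left) : Prop :=
  ∀ (s : κ) (Y' : Scheme.{u}) (p : Y' ⟶ Y₀) (q : Y' ⟶ U s), p ≫ c ≫ H.hom = q ≫ u s →
    ∃ l : Y' ⟶ (T s).left, l ≫ (t s).left ≫ pullback.fst H.hom (u s) = p ≫ c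

theorem inPieces_iff [∀ s, Mono (u s)] {T : ∀ s, Over (U s)} (t : ∀ s, T s ⟶ Red.bc (u s) H) {Y : Over S}
    (a : Y ⟶ H) :
    InPieces u t a.left ↔ ∀ s, ∃ l : Red.bc (u s) Y ⟶ T s, l ≫ t s = (Over.pullback (u s)).map a := by
  constructor
  · intro h s
    obtain ⟨l, hl⟩ := h s _ (pullback.fst Y.hom (u s)) (pullback.snd Y.hom (u s)) (by
      rw [Over.w a]; exact pullback.condition)
    have h2 : l ≫ (T s).hom = pullback.snd Y.hom (u s) := by
      rw [← cancel_mono (u s), Category.assoc, ← Over.w (t s), Category.assoc]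
      have e : (Red.bc (u s) H).hom ≫ u s = pullback.fst H.hom (u s) ≫ H.hom := pullback.condition.symm
      rw [e, reassoc_of% hl, Over.w a]
      exact pullback.condition
    refine ⟨Over.homMk l h2, GrpLimLib.hom_ext₁ ?_⟩
    rw [Over.comp_left, Category.assoc, GrpLimLib.map_left_fst]
    exact hl
  · intro h s Y' p q hpq
    obtain ⟨l, hl⟩ := h s
    rw [Over.w a] at hpq
    refine ⟨pullback.lift p q hpq ≫ l.left, ?_⟩
    have e := congrArg (fun m : Red.bc (u s) Y ⟶ _ => m.left ≫ pullback.fst H.hom (u s)) hl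
    simp only [Over.comp_left, Category.assoc, GrpLimLib.map_left_fst] at e
    rw [Category.assoc]
    erw [e]
    rw [← Category.assoc]
    exact congrArg (· ≫ a.left) (pullback.lift_fst _ _ _)

variable [∀ s, IsOpenImmersion (u s)]

theorem isLocalSubgroup_inPieces (T : ∀ s, Over (U s)) [∀ s, GrpObj (T s)] (t : ∀ s, T s ⟶ Red.bc (u s) H)
    [∀ s, IsMonHom (t s)] [∀ s, Mono (t s)] :
    TorusQI.IsLocalSubgroup (G := H) (fun c => InPieces u t c) where
  comp := fun {T₀ T' c} l h s Y' p q hpq => by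
    obtain ⟨m, hm⟩ := h s Y' (p ≫ l) q (by rw [Category.assoc] at hpq ⊢; exact hpq)
    exact ⟨m, by rw [hm, Category.assoc]⟩
  of_openCover := fun {T₀ c} 𝒰 h s Y' p q hpq => by
    haveI : Mono (t s).left := Over.mono_left_of_mono _
    refine TorusQI.exists_fac_of_openCover ((t s).left ≫ pullback.fst H.hom (u s)) (p ≫ c) (𝒰.pullback₁ p) fun i => ?_
    obtain ⟨m, hm⟩ := h i s _ (pullback.snd p (𝒰.f i)) (pullback.fst p (𝒰.f i) ≫ q) (by
      rw [Category.assoc, Category.assoc, ← hpq, pullback.condition_assoc])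
    exact ⟨m, hm.trans (pullback.condition_assoc _).symm⟩
  of_covers := fun {T₀ T' c} r h₁ h₂ h₃ h s Y' p q hpq => by
    haveI : Mono (t s).left := Over.mono_left_of_mono _
    have hr : FpqcDescLib.Covers r := by
      haveI := h₁; haveI := h₂; haveI := h₃
      exact FpqcDescLib.covers_of_isCovering (FpqcDescLib.isCovering_of_lfp r)
    obtain ⟨l, hl⟩ := h s _ (pullback.snd p r) (pullback.fst p r ≫ q) (by
      rw [Category.assoc, Category.assoc, ← hpq, pullback.condition_assoc])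
    exact TorusQI.exists_fac_of_covers ((t s).left ≫ pullback.fst H.hom (u s)) (p ≫ c)
      (hr.pullback p _ _ (IsPullback.of_hasPullback p r)) l (hl.trans (pullback.condition_assoc _).symm)
  one := fun Y => (inPieces_iff u t _).2 fun s => ⟨1, by rw [MonObj.one_comp (t s), Functor.map_one]⟩
  mul := fun {Y a b} ha hb => (inPieces_iff u t _).2 fun s => by
    obtain ⟨l, hl⟩ := (inPieces_iff u t _).1 ha s
    obtain ⟨m, hm⟩ := (inPieces_iff u t _).1 hb s
    exact ⟨l * m, by rw [MonObj.mul_comp, hl, hm, Functor.map_mul]⟩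
  inv := fun {Y a} ha => (inPieces_iff u t _).2 fun s => by
    obtain ⟨l, hl⟩ := (inPieces_iff u t _).1 ha s
    refine ⟨l⁻¹, ?_⟩
    have e₁ : (Over.pullback (u s)).map a⁻¹ = ((Over.pullback (u s)).map a)⁻¹ :=
      eq_inv_of_mul_eq_one_left (by rw [← Functor.map_mul, inv_mul_cancel, Functor.map_one])
    rw [e₁, GrpObj.inv_comp, hl]

/-- Tori given on the pieces of a disjoint open covering glue. -/
theorem exists_glue_tori (hu : ∀ x : S, ∃ s y, u s y = x) (hdisj : ∀ (s s' : κ) y y', u s y = u s' y' → s = s')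
    (T : ∀ s, Over (U s)) [∀ s, GrpObj (T s)] (hT : ∀ s, Red.IsTorus (T s)) (t : ∀ s, T s ⟶ Red.bc (u s) H)
    [∀ s, IsMonHom (t s)] [∀ s, Mono (t s)] :
    ∃ (T' : Over S) (_ : GrpObj T') (j : T' ⟶ H), IsMonHom j ∧ Mono j ∧ Red.IsTorus T' ∧
      ∀ s, ∃ e : Red.bc (u s) T' ≅ T s, e.hom ≫ t s = (Over.pullback (u s)).map j := by
  classical
  have hmt : ∀ s, SGA3x.IsMultTypeFT (T s) := fun s => TorusQI.isMultTypeFT_of_isTorus (hT s)
  have hchar : ∀ s (W : Over (U s)) (y : W ⟶ Red.bc (u s) H),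
      InPieces u t (theta (u s) y).left ↔ ∃ l, l ≫ t s = y := by
    intro s W y
    constructor
    · intro h
      obtain ⟨l, hl⟩ := h s W.left (𝟙 _) W.hom (by
        rw [Category.id_comp, Over.w (theta (u s) y)]; simp)
      rw [Category.id_comp, theta_left] at hl
      have h2 : l ≫ (T s).hom = W.hom := by
        rw [← cancel_mono (u s), Category.assoc, ← Over.w (t s), Category.assoc]
        have e : (Red.bc (u s) H).hom ≫ u s = pullback.fst H.hom (u s) ≫ H.hom := pullback.condition.symm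
        rw [e, reassoc_of% hl, ← e, ← Category.assoc, Over.w y]
      exact ⟨Over.homMk l h2, GrpLimLib.hom_ext₁ (by rw [Over.comp_left, Category.assoc]; exact hl)⟩
    · rintro ⟨l, rfl⟩ s' Y' p q hpq
      rw [Over.w (theta (u s) (l ≫ t s))] at hpq
      by_cases hY : IsEmpty Y'
      · refine ⟨(isInitialOfIsEmpty (X := Y')).to _, (isInitialOfIsEmpty (X := Y')).hom_ext _ _⟩
      · rw [not_isEmpty_iff] at hY
        obtain ⟨z⟩ := hY
        obtain rfl : s = s' := hdisj s s' (W.hom (p z)) (q z) (by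
          have := congrArg (fun f : Y' ⟶ S => f z) hpq
          simpa [Scheme.Hom.comp_apply] using this)
        refine ⟨p ≫ l.left, ?_⟩
        rw [theta_left, Over.comp_left]
        simp only [Category.assoc]
  obtain ⟨T', iT', j, hj, hjm, hall⟩ := MultTypeImage.exists_subgroup_of_local_mono
    (fun c => InPieces u t c) (isLocalSubgroup_inPieces u T t) U u (fun s => inferInstance) hu T
    (fun s => MultTypeLib.GenMultType.isAffineHom (MultTypeLib.GenMultType.of_multTypeFT (hmt s))) t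
    (fun s => inferInstance) hchar
  haveI := hj; haveI := hjm
  have he : ∀ s, ∃ e : Red.bc (u s) T' ≅ T s, e.hom ≫ t s = (Over.pullback (u s)).map j := fun s => by
    obtain ⟨l, hl⟩ := (inPieces_iff u t j).1 ((hall T' j).2 ⟨𝟙 _, Category.id_comp _⟩) s
    obtain ⟨m, hm⟩ := (hall _ _).1 ((hchar s _ (t s)).2 ⟨𝟙 _, Category.id_comp _⟩)
    obtain ⟨m', rfl⟩ := (theta_bijective (g := u s) (Y := T s) (H := T')).surjective m
    have hm' : m' ≫ (Over.pullback (u s)).map j = t s :=
      (theta_bijective (g := u s)).injective ((SubgroupNbhd.theta_map _ _ _).trans hm)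
    haveI : Mono ((Over.pullback (u s)).map j) := inferInstance
    exact ⟨⟨l, m', by rw [← cancel_mono ((Over.pullback (u s)).map j), Category.assoc, hm', hl, Category.id_comp],
      by rw [← cancel_mono (t s), Category.assoc, hl, hm', Category.id_comp]⟩, hl⟩
  have hg : ∀ s, Nonempty (Grp.mk (Red.bc (u s) T') ≅ Grp.mk (T s)) := fun s => by
    obtain ⟨e, he⟩ := he s
    haveI : IsMonHom e.hom := MaxTorusBC.isMonHom_of_mono e.hom (t s) (by rw [he]; infer_instance)
    exact ⟨Grp.mkIso e (IsMonHom.one_hom e.hom) (IsMonHom.mul_hom e.hom)⟩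
  refine ⟨T', iT', j, hj, hjm, isTorus_of_geom_split (MultTypeQI.isMultTypeFT_of_etale_locally fun x => ?_)
    (fun x => ?_), he⟩
  · obtain ⟨s, y, rfl⟩ := hu x
    obtain ⟨W, f, hf, ⟨w, hw⟩, M, iM, hM, ⟨e⟩⟩ := MultTypeQI.etale_locally_diag (hmt s) y
    obtain ⟨eg⟩ := hg s
    obtain ⟨e₁⟩ := MultTypeBC.bc_bc f (u s) T'
    obtain ⟨e₂⟩ := MultTypeBC.bc_iso f eg
    haveI := hf
    exact ⟨W, f ≫ u s, inferInstance, ⟨w, by rw [Scheme.Hom.comp_apply, hw]⟩, M, iM, hM,
      ⟨e₁.symm ≪≫ e₂ ≪≫ e⟩⟩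
  · obtain ⟨s, y, rfl⟩ := hu x
    obtain ⟨r, ⟨e⟩⟩ := TorusQI.exists_split_geom (hT s) (Red.geomPt y)
    obtain ⟨eg⟩ := hg s
    obtain ⟨e₁⟩ := MultTypeBC.bc_bc (Red.geomPt y) (u s) T'
    obtain ⟨e₂⟩ := MultTypeBC.bc_iso (Red.geomPt y) eg
    refine ⟨_, inferInstance, inferInstance, Red.geomPt y ≫ u s, r, ?_, ⟨e₁.symm ≪≫ e₂ ≪≫ e⟩⟩
    rw [Scheme.Hom.comp_apply, TorusQI.geomPt_closedPoint]

end Groth.Agent.TorusArtin
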