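import Groth.Agent.TorusArtin.CentralTorus
import Groth.Agent.TorusArtin.Pieces
import Groth.Agent.MaxTorTransp.Cartan
import Groth.Agent.AlgStLib.QuasiCompactImm

/-!
# Subgroups which are fibrewise centralisers of tori, over artinian rings
-/

set_option backward.isDefEq.respectTransparency false
set_option backward.isDefEq.respectTransparency.types false
set_option linter.style.haveILetI false
set_option autoImplicit false
set_option maxHeartbeats 1000000
set_option synthInstance.maxHeartbeats 200000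

universe u

open CategoryTheory Limits MonoidalCategory CartesianMonoidalCategory MonObj AlgebraicGeometry

namespace Groth.Agent.TorusArtin

open GrpSchLib GrpLimLib

variable {A : Type u} [CommRing A] [IsArtinianRing A]

/-- The point of the spectrum of an artinian ring as an open subscheme. -/
noncomputable abbrev pieceMap (p : PrimeSpectrum A) :
    Spec (CommRingCat.of (Localization.AtPrime p.asIdeal)) ⟶ Spec (CommRingCat.of A) :=
  Spec.map (CommRingCat.ofHom (algebraMap A (Localization.AtPrime p.asIdeal)))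

instance isOpenImmersion_pieceMap (p : PrimeSpectrum A) : IsOpenImmersion (pieceMap p) := by
  haveI : IsClosedImmersion (pieceMap p) :=
    IsClosedImmersion.spec_of_surjective _ (IsArtinianRing.localization_surjective p.asIdeal.primeCompl _)
  haveI : Flat (pieceMap p) := (HasRingHomProperty.Spec_iff (P := @Flat)).2
    (RingHom.flat_algebraMap_iff.2 (IsLocalization.flat _ p.asIdeal.primeCompl))
  haveI : LocallyOfFinitePresentation (pieceMap p) :=
    LocallyOfFinitePresentation.iff_locallyOfFiniteType.2 inferInstance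
  exact IsOpenImmersion.of_flat_of_mono _

theorem pieceMap_apply (p : PrimeSpectrum A) (y) : pieceMap p y = p := by
  haveI : IsArtinianRing (Localization.AtPrime p.asIdeal) := inferInstance
  haveI hm : y.asIdeal.IsMaximal := IsArtinianRing.isPrime_iff_isMaximal _ |>.1 y.2
  apply PrimeSpectrum.ext
  show Ideal.comap (algebraMap A (Localization.AtPrime p.asIdeal)) y.asIdeal = p.asIdeal
  rw [IsLocalRing.eq_maximalIdeal hm]
  exact IsLocalization.AtPrime.under_maximalIdeal _ p.asIdeal

theorem pieceMap_covers (x : ↥(Spec (CommRingCat.of A))) : ∃ (p : PrimeSpectrum A) (y : _), pieceMap p y = x :=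
  ⟨x, IsLocalRing.closedPoint (Localization.AtPrime (R := A) (PrimeSpectrum.asIdeal x)), pieceMap_apply x _⟩

theorem isSeparated_artinian_ring (G : Over (Spec (CommRingCat.of A))) [GrpObj G] [LocallyOfFiniteType G.hom] :
    IsSeparated G.hom := by
  refine IsZariskiLocalAtTarget.of_openCover
    (Scheme.Cover.mkOfCovers (PrimeSpectrum A) (fun p => Spec (CommRingCat.of (Localization.AtPrime p.asIdeal)))
      (fun p => pieceMap p) (fun x => pieceMap_covers x) (fun p => inferInstance)) fun p => ?_
  haveI : LocallyOfFiniteType (Red.bc (pieceMap p) G).hom :=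
    inferInstanceAs (LocallyOfFiniteType (pullback.snd G.hom (pieceMap p)))
  exact RedImage.isSeparated_artinian (Red.bc (pieceMap p) G)

theorem exists_lift_geomPt {S U : Scheme.{u}} (v : U ⟶ S) [IsOpenImmersion v] (s : S) (hs : ∃ y, v y = s) :
    ∃ b : Spec (CommRingCat.of (AlgebraicClosure (S.residueField s))) ⟶ U, b ≫ v = Red.geomPt s := by
  have hb : Set.range (Red.geomPt s) ⊆ Set.range v := by
    rintro _ ⟨z, rfl⟩
    obtain ⟨y, hy⟩ := hs
    refine ⟨y, ?_⟩
    rw [hy, show z = IsLocalRing.closedPoint (AlgebraicClosure (S.residueField s)) from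
      Subsingleton.elim (α := PrimeSpectrum (AlgebraicClosure (S.residueField s))) _ _, TorusQI.geomPt_closedPoint]
  exact ⟨IsOpenImmersion.lift v (Red.geomPt s) hb, IsOpenImmersion.lift_fac _ _ hb⟩

/-- A smooth group over an artinian ring has a torus which on each geometric fibre is central and contains the
central tori. -/
theorem exists_fibre_central_torus (H : Over (Spec (CommRingCat.of A))) [GrpObj H] [Smooth H.hom]
    [QuasiCompact H.hom] :
    ∃ (T₁ : Over (Spec (CommRingCat.of A))) (_ : GrpObj T₁) (j : T₁ ⟶ H), IsMonHom j ∧ Mono j ∧ Red.IsTorus T₁ ∧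
      ∀ s : ↥(Spec (CommRingCat.of A)), IsCentralHom ((Over.pullback (Red.geomPt s)).map j) ∧
        ∀ (R : Over (Spec (CommRingCat.of (AlgebraicClosure ((Spec (CommRingCat.of A)).residueField s))))) [GrpObj R]
          (r : R ⟶ Red.geomFibre s H) [IsMonHom r] [Mono r], Red.IsTorus R → IsCentralHom r →
          ∃ f : R ⟶ Red.geomFibre s T₁, f ≫ (Over.pullback (Red.geomPt s)).map j = r := by
  choose b hb using fun s : ↥(Spec (CommRingCat.of A)) => exists_lift_geomPt (pieceMap s) s
    ⟨IsLocalRing.closedPoint (Localization.AtPrime (R := A) (PrimeSpectrum.asIdeal s)), pieceMap_apply s _⟩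
  haveI : ∀ s : PrimeSpectrum A, Smooth (Red.bc (pieceMap s) H).hom := fun s =>
    inferInstanceAs (Smooth (pullback.snd H.hom (pieceMap s)))
  haveI : ∀ s : PrimeSpectrum A, QuasiCompact (Red.bc (pieceMap s) H).hom := fun s =>
    inferInstanceAs (QuasiCompact (pullback.snd H.hom (pieceMap s)))
  choose T iT t htm htmono hT hbc hbu using fun s : PrimeSpectrum A =>
    exists_central_lift (Red.bc (pieceMap s) H) (b s)
  haveI := htm; haveI := htmono
  obtain ⟨T₁, _, j, hj, hjm, hT₁, he⟩ := exists_glue_tori (H := H) (fun s => pieceMap (A := A) s)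
    pieceMap_covers (fun s s' y y' h => by rwa [pieceMap_apply, pieceMap_apply] at h) T hT t
  haveI := hj; haveI := hjm
  refine ⟨T₁, inferInstance, j, hj, hjm, hT₁, fun s => ?_⟩
  obtain ⟨e, hee⟩ := he s
  let F := Over.pullback (Red.geomPt (S := Spec (CommRingCat.of A)) s)
  let F' := Over.pullback (b s)
  let eH := cmp (hb s) H
  let eT := cmp (hb s) T₁
  haveI : IsMonHom eH.inv := inferInstance
  have hn : F.map j ≫ eH.inv = (eT.inv ≫ F'.map e.hom) ≫ F'.map (t s) := by
    rw [Category.assoc, ← F'.map_comp, hee, Iso.eq_inv_comp, ← Category.assoc, ← MaxTorusBC.cmp_naturality,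
      Category.assoc, Iso.hom_inv_id, Category.comp_id]
  refine ⟨fun X x g => ?_, fun R _ r _ _ hR hr => ?_⟩
  · rw [← cancel_mono eH.inv, MonObj.mul_comp, MonObj.mul_comp, Category.assoc, hn, ← Category.assoc x]
    exact hbc s X (x ≫ eT.inv ≫ F'.map e.hom) (g ≫ eH.inv)
  · obtain ⟨f, hf⟩ := hbu s R (r ≫ eH.inv) hR (fun X x g => by
      have h := congrArg (· ≫ eH.inv) (hr X x (g ≫ eH.hom))
      simpa [MonObj.mul_comp] using h)
    refine ⟨f ≫ F'.map e.inv ≫ eT.hom, ?_⟩
    rw [Category.assoc, Category.assoc, ← MaxTorusBC.cmp_naturality (hb s) j, ← hee,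
      ← Category.assoc (F'.map e.inv), ← F'.map_comp, Iso.inv_hom_id_assoc, reassoc_of% hf,
      Iso.inv_hom_id, Category.comp_id]

/-- A smooth subgroup which is fibrewise the centraliser of a torus is the centraliser of a torus. -/
theorem exists_torus_centralizer {G H : Over (Spec (CommRingCat.of A))} [GrpObj G] [GrpObj H] [Smooth G.hom]
    [QuasiCompact G.hom] [Smooth H.hom] (i : H ⟶ G) [IsMonHom i] [Mono i] [IsImmersion i.left]
    (hH : ∀ s : ↥(Spec (CommRingCat.of A)), ∃ (T' : Over (Spec (CommRingCat.of (AlgebraicClosure ((Spec (CommRingCat.of A)).residueField s)))))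
      (_ : GrpObj T') (j' : T' ⟶ Red.geomFibre s G) (_ : IsMonHom j') (_ : Mono j'), Red.IsTorus T' ∧
      Red.IsCentralizerOf j' ((Over.pullback (Red.geomPt s)).map i)) :
    (∃ (T : Over (Spec (CommRingCat.of A))) (_ : GrpObj T) (j : T ⟶ G) (_ : IsMonHom j) (_ : Mono j), Red.IsTorus T ∧
      Red.IsCentralizerOf j i) ∧ IsClosedImmersion i.left := by
  haveI := isSeparated_artinian_ring G
  haveI : IsSeparated H.hom := by rw [← Over.w i]; infer_instance
  haveI : IsLocallyNoetherian G.left := LocallyOfFiniteType.isLocallyNoetherian G.hom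
  haveI : QuasiCompact i.left := AlgStLib.quasiCompact_of_isImmersion i.left
  haveI : QuasiCompact H.hom := by rw [← Over.w i]; infer_instance
  choose T' iT' j' hj' hjm' hT' hC' using hH
  obtain ⟨T₁, _, j, hj, hjm, hT₁, hfib⟩ := exists_fibre_central_torus H
  haveI := hj; haveI := hjm
  have key : ∀ s, IsCentralHom ((Over.pullback (Red.geomPt s)).map j) ∧
      ∃ f : T' s ⟶ Red.geomFibre s T₁,
        f ≫ (Over.pullback (Red.geomPt s)).map (j ≫ i) = j' s := fun s => by
    let F := Over.pullback (Red.geomPt (S := Spec (CommRingCat.of A)) s)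
    refine ⟨(hfib s).1, ?_⟩
    haveI := hj' s; haveI := hjm' s
    have hC := hC' s
    haveI := hC.1; haveI := hC.2.1
    have hTm := TorusQI.isMultTypeFT_of_isTorus (hT' s)
    obtain ⟨r, hr⟩ := (hC.2.2 (T' s) (j' s)).2 fun X x h => by
      rw [← MonObj.mul_comp, ← MonObj.mul_comp, MultTypeComm.points_comm hTm x h]
    haveI : IsMonHom r := MaxTorusBC.isMonHom_of_mono r (F.map i) (by rw [hr]; infer_instance)
    haveI : Mono (r ≫ F.map i) := by rw [hr]; infer_instance
    haveI : Mono r := mono_of_mono r (F.map i)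
    have hrc : IsCentralHom r := fun X x g => by
      rw [← cancel_mono (F.map i), MonObj.mul_comp, MonObj.mul_comp, Category.assoc, hr]
      simpa using ((hC.2.2 X (g ≫ F.map i)).1 ⟨g, rfl⟩ X (𝟙 X) x).symm
    obtain ⟨f, hf⟩ := (hfib s).2 (T' s) r (hT' s) hrc
    exact ⟨f, by rw [F.map_comp, reassoc_of% hf, hr]⟩
  haveI : Mono (j ≫ i) := inferInstance
  haveI : LocallyOfFiniteType H.hom := inferInstance
  obtain ⟨D, _, d, hD, hdc, hDs⟩ := MaxTorCent.exists_centralizer j (TorusQI.isMultTypeFT_of_isTorus hT₁)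
  haveI := hD.1; haveI := hD.2.1; haveI := hDs
  haveI : IsIso d := MaxTorTransp.isIso_of_fibre_sections d fun s => by
    refine ((SolvGrp.isCentralizerOf_bc (Red.geomPt s) j d hD).2.2 _ (𝟙 _)).2 fun X x h => ?_
    rw [Category.comp_id]
    exact ((key s).1 X h x).symm
  have hcent : IsCentralHom j := fun X x g => by
    simpa using ((hD.2.2 X g).1 ⟨g ≫ inv d, by simp⟩ X (𝟙 X) x).symm
  obtain ⟨C, _, c, hC, hcc, hCs⟩ := MaxTorCent.exists_centralizer (j ≫ i) (TorusQI.isMultTypeFT_of_isTorus hT₁)
  haveI := hC.1; haveI := hC.2.1; haveI := hCs; haveI := hcc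
  obtain ⟨a, ha⟩ := (hC.2.2 H i).2 fun X x h => by
    rw [← Category.assoc h j i, ← MonObj.mul_comp, ← MonObj.mul_comp]
    exact congrArg (· ≫ i) (hcent X h x).symm
  haveI : IsMonHom a := MaxTorusBC.isMonHom_of_mono a c (by rw [ha]; infer_instance)
  haveI : Mono (a ≫ c) := by rw [ha]; infer_instance
  haveI : Mono a := mono_of_mono a c
  haveI : IsIso a := MaxTorTransp.isIso_of_fibre_sections a fun s => by
    let F := Over.pullback (Red.geomPt s)
    obtain ⟨f, hf⟩ := (key s).2
    have hCb := SolvGrp.isCentralizerOf_bc (Red.geomPt s) (j ≫ i) c hC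
    haveI := hCb.2.1
    obtain ⟨g, hg⟩ := ((hC' s).2.2 _ (F.map c)).2 fun X x h => by
      rw [← hf, ← Category.assoc h f]
      simpa using (hCb.2.2 _ (x ≫ F.map c)).1 ⟨x, rfl⟩ X (𝟙 X) (h ≫ f)
    refine ⟨g, (cancel_mono (F.map c)).1 ?_⟩
    rw [Category.assoc, ← F.map_comp, ha, hg, Category.id_comp]
  refine ⟨⟨T₁, inferInstance, j ≫ i, inferInstance, inferInstance, hT₁, inferInstance, inferInstance, fun X g => ?_⟩, ?_⟩
  · rw [← hC.2.2 X g]
    exact ⟨fun ⟨z, hz⟩ => ⟨z ≫ a, by rw [Category.assoc, ha, hz]⟩,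
      fun ⟨z, hz⟩ => ⟨z ≫ inv a, by rw [Category.assoc, ← ha, IsIso.inv_hom_id_assoc, hz]⟩⟩
  · rw [← ha, Over.comp_left]
    haveI : IsIso a.left := inferInstanceAs (IsIso ((Over.forget _).map a))
    infer_instance

end Groth.Agent.TorusArtin
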