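import Groth.Agent.TorusArtin.Main
import Groth.Agent.TransLib.Centralizer
import Groth.Agent.MultTypeQI.ClosedSubgroup
import Groth.Agent.TorusQI.MaxSubtorus

/-!
# Central tori over a field and over artinian local rings
-/

set_option backward.isDefEq.respectTransparency false
set_option backward.isDefEq.respectTransparency.types false
set_option linter.style.haveILetI false
set_option autoImplicit false
set_option maxHeartbeats 1000000
set_option synthInstance.maxHeartbeats 200000

universe u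

open CategoryTheory Limits MonoidalCategory CartesianMonoidalCategory MonObj AlgebraicGeometry

namespace Groth.Agent.TorusArtin

open GrpSchLib GrpLimLib

/-- A torus commuting with a torus which is maximal lies in it. -/
theorem le_of_max {S : Scheme.{u}} {G T R : Over S} [GrpObj G] [GrpObj T] [GrpObj R] [IsSeparated G.hom]
    [LocallyOfFiniteType G.hom] {t : T ⟶ G} [IsMonHom t] (hT : Red.IsTorus T) (hm : MaxTorusBC.Max t)
    (r : R ⟶ G) [IsMonHom r] (hR : Red.IsTorus R)
    (hcomm : ∀ {Y : Over S} (x : Y ⟶ T) (y : Y ⟶ R), (x ≫ t) * (y ≫ r) = (y ≫ r) * (x ≫ t)) :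
    ∃ f : R ⟶ T, f ≫ t = r := by
  let u : T ⊗ R ⟶ G := (fst T R ≫ t) * (snd T R ≫ r)
  haveI : IsMonHom u := TorusQI.isMonHom_of_pts u fun Y x y => by
    simp only [u, MonObj.comp_mul, MonObj.mul_comp _ _ (fst T R), MonObj.mul_comp _ _ (snd T R),
      ← Category.assoc, MonObj.mul_comp]
    rw [_root_.mul_assoc, ← _root_.mul_assoc ((y ≫ fst T R) ≫ t), hcomm, _root_.mul_assoc, ← _root_.mul_assoc]
  obtain ⟨Q, iQ, jQ, p, hQ, hjm, hjmono, hpm, -, hpj⟩ :=
    MultTypeImage.exists_torus_image (RedRank.isTorus_prod hT hR) u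
  haveI := hjm; haveI := hjmono; haveI := hpm
  let a : T ⟶ Q := lift (𝟙 T) 1 ≫ p
  have ha : a ≫ jQ = t := by
    simp only [a, Category.assoc, hpj, u, MonObj.comp_mul, lift_fst_assoc, lift_snd_assoc, Category.id_comp,
      MonObj.one_comp r, _root_.mul_one]
  haveI : IsIso a := hm Q jQ a hQ ha
  refine ⟨lift 1 (𝟙 R) ≫ p ≫ inv a, ?_⟩
  have hinv : inv a ≫ t = jQ := by rw [IsIso.inv_comp_eq]; exact ha.symm
  simp only [Category.assoc, hinv, hpj, u, MonObj.comp_mul, lift_fst_assoc, lift_snd_assoc, Category.id_comp,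
    MonObj.one_comp t, _root_.one_mul]

/-- The points of a morphism are central. -/
def IsCentralHom {S : Scheme.{u}} {T G : Over S} [GrpObj G] (t : T ⟶ G) : Prop :=
  ∀ (X : Over S) (x : X ⟶ T) (g : X ⟶ G), (x ≫ t) * g = g * (x ≫ t)

theorem IsCentralHom.comp {S : Scheme.{u}} {T T' G : Over S} [GrpObj G] {t : T ⟶ G} (h : IsCentralHom t)
    (f : T' ⟶ T) : IsCentralHom (f ≫ t) := fun X x g => by
  rw [← Category.assoc]; exact h X (x ≫ f) g

theorem IsCentralHom.map {S S' : Scheme.{u}} {T G : Over S} [GrpObj G] {t : T ⟶ G} (h : IsCentralHom t)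
    (b : S' ⟶ S) : IsCentralHom ((Over.pullback b).map t) := fun X x g => by
  apply (DSPtsLib.theta_bijective (g := b) (Y := X) (H := G)).1
  rw [DSPtsLib.theta_mul, DSPtsLib.theta_mul, SubgroupNbhd.theta_map]
  exact h _ _ _

variable {k : Type u} [Field k]

/-- A smooth group over a field has a central torus containing all central tori over an algebraically closed
field. -/
theorem exists_centralTorus (H : Over (Spec (CommRingCat.of k))) [GrpObj H] [Smooth H.hom] [QuasiCompact H.hom]
    {K : Type u} [Field K] [IsAlgClosed K] (b : Spec (CommRingCat.of K) ⟶ Spec (CommRingCat.of k)) :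
    ∃ (T : Over (Spec (CommRingCat.of k))) (_ : GrpObj T) (t : T ⟶ H), IsMonHom t ∧ IsClosedImmersion t.left ∧
      Red.IsTorus T ∧ IsCentralHom t ∧
      ∀ (R : Over (Spec (CommRingCat.of K))) [GrpObj R] (r : R ⟶ Red.bc b H) [IsMonHom r] [Mono r],
        Red.IsTorus R → IsCentralHom r → ∃ f : R ⟶ Red.bc b T, f ≫ (Over.pullback b).map t = r := by
  haveI := GrpSchLib.AntiAffine.isSeparated_grp H
  let F := Over.pullback b
  let s := b (IsLocalRing.closedPoint K)
  obtain ⟨S, _, iS, hiS⟩ := TorusField.exists_isMaximalTorus H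
  haveI := hiS.1; haveI := hiS.2.1
  obtain ⟨hSa, hSs, -⟩ := AGFLib.QuasiComp.torus_props hiS.2.2.1
  haveI := hSa; haveI := hSs
  obtain ⟨Z, _, z, hzm, hzc, hZ⟩ := TransLib.exists_centralizer (𝟙 H)
  haveI := hzm; haveI := hzc
  haveI : Mono z := (Over.forget _).mono_of_mono_map (inferInstanceAs (Mono z.left))
  have hcen : Red.IsCentralizerOf (𝟙 H) z := ⟨hzm, inferInstance, fun X g => hZ X g⟩
  let E := Limits.pullback iS z
  let e : E ⟶ S := Limits.pullback.fst iS z
  let q : E ⟶ Z := Limits.pullback.snd iS z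
  have sq : IsPullback e q iS z := IsPullback.of_hasPullback iS z
  haveI : IsClosedImmersion e.left :=
    MorphismProperty.of_isPullback (P := @IsClosedImmersion) (sq.map (Over.forget _)).flip hzc
  haveI : Mono e := (Over.forget _).mono_of_mono_map (inferInstanceAs (Mono e.left))
  obtain ⟨strE, hem, -⟩ := TorusField.exists_grp_pullback iS z e q sq
  letI := strE
  haveI := hem
  haveI : LocallyOfFiniteType E.hom := by rw [← Over.w e]; infer_instance
  have hEfl : Flat E.hom := MorLib.BF.flat_to_field (Field.toIsField k) E.hom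
  have hEfp : LocallyOfFinitePresentation E.hom :=
    LocallyOfFinitePresentation.iff_locallyOfFiniteType.2 inferInstance
  have hE : SGA3x.IsMultTypeFT E := MultTypeQI.isMultTypeFT_of_closedSubgroup
    (TorusQI.isMultTypeFT_of_isTorus hiS.2.2.1) e inferInstance hEfl hEfp
  obtain ⟨T, _, t, ht, -⟩ := TorusQI.exists_maximalTorus hE
  haveI := ht.1; haveI := ht.2.1
  haveI : LocallyOfFinitePresentation E.hom := hEfp
  haveI : QuasiCompact E.hom := by rw [← Over.w e]; infer_instance
  haveI : IsSeparated E.hom := by rw [← Over.w e]; infer_instance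
  haveI : QuasiSeparated E.hom := inferInstance
  obtain ⟨hTa, hTs, -⟩ := AGFLib.QuasiComp.torus_props ht.2.2.1
  haveI := hTa; haveI := hTs
  haveI : Mono iS := inferInstance
  haveI : Mono (t ≫ e ≫ iS) := inferInstance
  haveI : IsClosedImmersion (t ≫ e ≫ iS).left := by
    haveI : QuasiCompact (t ≫ e ≫ iS).left := by
      haveI : QuasiCompact ((t ≫ e ≫ iS).left ≫ H.hom) := by rw [Over.w]; infer_instance
      exact QuasiCompact.of_comp (t ≫ e ≫ iS).left H.hom
    exact AlgSpGrp.isClosedImmersion_of_mono (t ≫ e ≫ iS)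
  have hTc : IsCentralHom (t ≫ e ≫ iS) := fun X x g => by
    have hx : x ≫ t ≫ e ≫ iS = ((x ≫ t) ≫ q) ≫ z := by
      rw [sq.w, Category.assoc, Category.assoc]
    rw [hx]
    simpa [commute_iff_eq] using (hZ X (((x ≫ t) ≫ q) ≫ z)).1 ⟨_, rfl⟩ X (𝟙 X) g
  refine ⟨T, inferInstance, t ≫ e ≫ iS, inferInstance, inferInstance, ht.2.2.1, hTc, fun R _ r _ _ hR hr => ?_⟩
  haveI : IsSeparated (Red.bc b H).hom := inferInstanceAs (IsSeparated (pullback.snd H.hom b))
  haveI : LocallyOfFiniteType (Red.bc b H).hom := inferInstanceAs (LocallyOfFiniteType (pullback.snd H.hom b))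
  haveI : IsSeparated (Red.bc b E).hom := inferInstanceAs (IsSeparated (pullback.snd E.hom b))
  haveI : LocallyOfFiniteType (Red.bc b E).hom := inferInstanceAs (LocallyOfFiniteType (pullback.snd E.hom b))
  obtain ⟨f, hf⟩ := le_of_max (SolvGrp.isTorus_bc b hiS.2.2.1)
    ((MaxTorusBC.max_geom_iff iS hiS.2.2.1 b s rfl).2 (hiS.2.2.2 s)) r hR fun x y => (hr _ y _).symm
  have hzb := SolvGrp.isCentralizerOf_bc b (𝟙 H) z hcen
  obtain ⟨l, hl⟩ := (hzb.2.2 R r).2 fun X x h => by
    rw [CategoryTheory.Functor.map_id, Category.comp_id]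
    exact hr X x h
  haveI : F.IsRightAdjoint := (Over.mapPullbackAdj b).isRightAdjoint
  let r' : R ⟶ Red.bc b E := (sq.map F).lift f l (hf.trans hl.symm)
  have hr' : r' ≫ F.map e ≫ F.map iS = r := by rw [(sq.map F).lift_fst_assoc]; exact hf
  haveI : Mono (F.map e) := inferInstance
  haveI : Mono (F.map iS) := inferInstance
  haveI : IsMonHom r' := MaxTorusBC.isMonHom_of_mono r' (F.map e ≫ F.map iS) (by rw [hr']; infer_instance)
  obtain ⟨g, hg⟩ := le_of_max (SolvGrp.isTorus_bc b ht.2.2.1)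
    ((MaxTorusBC.max_geom_iff t ht.2.2.1 b s rfl).2 (ht.2.2.2 s)) r' hR fun x y =>
      MultTypeComm.points_comm (MultTypeBC.isMultTypeFT_bc b hE) _ _
  refine ⟨g, ?_⟩
  rw [F.map_comp, F.map_comp, ← Category.assoc, hg, hr']

variable {A : Type u} [CommRing A] [IsArtinianRing A] [IsLocalRing A]

/-- Over an artinian local ring a smooth group has a torus which is central on the geometric fibre and contains
its central tori. -/
theorem exists_central_lift (H : Over (Spec (CommRingCat.of A))) [GrpObj H] [Smooth H.hom] [QuasiCompact H.hom]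
    {K : Type u} [Field K] [IsAlgClosed K] (b : Spec (CommRingCat.of K) ⟶ Spec (CommRingCat.of A)) :
    ∃ (T : Over (Spec (CommRingCat.of A))) (_ : GrpObj T) (t : T ⟶ H), IsMonHom t ∧ Mono t ∧ Red.IsTorus T ∧
      IsCentralHom ((Over.pullback b).map t) ∧
      ∀ (R : Over (Spec (CommRingCat.of K))) [GrpObj R] (r : R ⟶ Red.bc b H) [IsMonHom r] [Mono r],
        Red.IsTorus R → IsCentralHom r → ∃ f : R ⟶ Red.bc b T, f ≫ (Over.pullback b).map t = r := by
  let J := IsLocalRing.maximalIdeal A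
  letI : Field (A ⧸ J) := Ideal.Quotient.field J
  have hJ : IsNilpotent J := by
    show IsNilpotent (IsLocalRing.maximalIdeal A)
    rw [← IsLocalRing.jacobson_eq_maximalIdeal ⊥ bot_ne_top]
    exact IsArtinianRing.isNilpotent_jacobson_bot
  let q := Spec.map (CommRingCat.ofHom (Ideal.Quotient.mk J))
  -- the point factors through the residue field
  obtain ⟨φ, hφ⟩ : ∃ φ : CommRingCat.of A ⟶ CommRingCat.of K, Spec.map φ = b := ⟨Spec.preimage b, Spec.map_preimage b⟩
  obtain ⟨b₀, hb₀⟩ : ∃ b₀ : Spec (CommRingCat.of K) ⟶ Spec (CommRingCat.of (A ⧸ J)), b₀ ≫ q = b := by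
    have hle : ∀ x ∈ J, φ.hom x = 0 := fun x hx => by
      obtain ⟨n, hn⟩ := hJ
      have hxn : x ^ n = 0 := by simpa [hn] using Ideal.pow_mem_pow hx n
      exact eq_zero_of_pow_eq_zero (n := n) (by rw [← map_pow, hxn, map_zero])
    refine ⟨Spec.map (CommRingCat.ofHom (Ideal.Quotient.lift J φ.hom hle)), ?_⟩
    rw [← Spec.map_comp, ← hφ]
    congr 1
  haveI : Smooth (Red.bc q H).hom := inferInstanceAs (Smooth (pullback.snd H.hom q))
  haveI : QuasiCompact (Red.bc q H).hom := inferInstanceAs (QuasiCompact (pullback.snd H.hom q))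
  obtain ⟨T₀, _, t₀, ht₀, htc, hT₀, hc₀, huniv⟩ := exists_centralTorus (Red.bc q H) b₀
  haveI := ht₀; haveI := htc
  obtain ⟨T, _, t, ht, htm, hT, ψ, hψ⟩ := exists_torus_lift J hJ H T₀ hT₀ t₀
  haveI := ht; haveI := htm
  refine ⟨T, inferInstance, t, ht, htm, hT, ?_, fun R _ r _ _ hR hr => ?_⟩
  · have h₁ : IsCentralHom ((Over.pullback b₀).map ((Over.pullback q).map t)) := by
      rw [← hψ]; exact (hc₀.comp ψ.hom).map b₀
    intro X x g
    let eH := cmp hb₀ H
    let eT := cmp hb₀ T
    haveI : Mono eH.inv := inferInstance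
    rw [← cancel_mono eH.inv, MonObj.mul_comp, MonObj.mul_comp]
    have hn : (Over.pullback b).map t ≫ eH.inv =
        eT.inv ≫ (Over.pullback b₀).map ((Over.pullback q).map t) := by
      rw [Iso.eq_inv_comp, ← Category.assoc, ← MaxTorusBC.cmp_naturality, Category.assoc, Iso.hom_inv_id,
        Category.comp_id]
    rw [Category.assoc, hn, ← Category.assoc x eT.inv]
    exact h₁ X (x ≫ eT.inv) (g ≫ eH.inv)
  · let eH := cmp hb₀ H
    let eT := cmp hb₀ T
    haveI : IsMonHom eH.inv := inferInstance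
    obtain ⟨f, hf⟩ := huniv R (r ≫ eH.inv) hR (fun X x g => by
      have h := congrArg (· ≫ eH.inv) (hr X x (g ≫ eH.hom))
      simpa [MonObj.mul_comp] using h)
    refine ⟨f ≫ (Over.pullback b₀).map ψ.inv ≫ eT.hom, ?_⟩
    rw [Category.assoc, Category.assoc, ← MaxTorusBC.cmp_naturality hb₀ t, ← hψ, ← Category.assoc ((Over.pullback b₀).map ψ.inv),
      ← Functor.map_comp, Iso.inv_hom_id_assoc, ← Category.assoc, hf, Category.assoc, Iso.inv_hom_id, Category.comp_id]

end Groth.Agent.TorusArtin
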