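import Groth.Agent.MultTypeLib.BaseChangeLift
import Groth.Agent.MultTypeLib.QuasiBasics
import Groth.Agent.MultTypeLib.GenMultType
import Groth.Agent.MultTypeLib.QuasiIso
import Groth.Agent.MultTypeLib.NilLift
import Groth.Agent.ThickDeform.Basic
import Groth.Agent.MultTypeQI.Recognize
import Groth.Agent.TorusQI.Geom
import Groth.Agent.TorusQI.QuotientTorus
import Groth.Agent.S5281

/-!
# Lifting subtori of smooth groups over a nilpotent thickening
-/

set_option backward.isDefEq.respectTransparency.types false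
set_option linter.style.haveILetI false
set_option autoImplicit false

universe u

open CategoryTheory CategoryTheory.Limits MonoidalCategory CartesianMonoidalCategory MonObj AlgebraicGeometry
open TensorProduct

namespace Groth.Agent.TorusArtin

open GrpSchLib GrpSchLib.AffineHopf MultTypeLib

/-- A group of multiplicative type is a torus as soon as, over each point, it is split over some algebraically
closed field. -/
theorem isTorus_of_geom_split {S : Scheme.{u}} {H : Over S} [GrpObj H] (hH : SGA3x.IsMultTypeFT H)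
    (h : ∀ s : S, ∃ (Ω : Type u) (_ : Field Ω) (_ : IsAlgClosed Ω) (b : Spec (CommRingCat.of Ω) ⟶ S) (r : ℕ),
      b (IsLocalRing.closedPoint Ω) = s ∧ Red.IsSplitTorusWith (Fin r → ℤ) (Red.bc b H)) : Red.IsTorus H := by
  obtain ⟨S', f, hflat, hsurj, hqc, hloc⟩ := hH
  refine ⟨S', f, hflat, hsurj, hqc, fun s' => ?_⟩
  obtain ⟨U, hU, M, iM, hM, ⟨eU⟩⟩ := hloc s'
  obtain ⟨Ω, _, _, b, r, hb, ⟨e⟩⟩ := h (f s')
  obtain ⟨z, -, -⟩ := Scheme.Pullback.exists_preimage_pullback (f := U.ι ≫ f) (g := b) (⟨s', hU⟩ : U)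
    (IsLocalRing.closedPoint Ω) hb.symm
  let p := (pullback (U.ι ≫ f) b).fromSpecResidueField z ≫ pullback.fst (U.ι ≫ f) b
  let q := (pullback (U.ι ≫ f) b).fromSpecResidueField z ≫ pullback.snd (U.ι ≫ f) b
  obtain ⟨e₁⟩ := HomRepLib.diag_bc q e
  obtain ⟨e₂⟩ := HomRepLib.diag_bc p eU
  obtain ⟨e₃⟩ := MultTypeBC.bc_congr (show q ≫ b = p ≫ U.ι ≫ f by
    simp only [p, q, Category.assoc, pullback.condition]) H
  haveI : Subsingleton ↥(Spec ((pullback (U.ι ≫ f) b).residueField z)) :=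
    inferInstanceAs (Subsingleton (PrimeSpectrum ((pullback (U.ι ≫ f) b).residueField z)))
  haveI : Nonempty ↥(Spec ((pullback (U.ι ≫ f) b).residueField z)) :=
    inferInstanceAs (Nonempty (PrimeSpectrum ((pullback (U.ι ≫ f) b).residueField z)))
  haveI : AddGroup.FG (Fin r → ℤ) := Module.Finite.iff_addGroup_fg.1 inferInstance
  obtain ⟨φ⟩ := TorusQI.nonempty_addEquiv (e₁.symm ≪≫ e₃ ≪≫ e₂)
  obtain ⟨d⟩ := TorusQI.nonempty_DS_congr (S := (U : Scheme.{u})) φ.symm
  exact ⟨U, hU, r, ⟨eU ≪≫ d.symm⟩⟩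

/-- A subtorus of the reduction of a smooth group modulo a nilpotent ideal lifts to a subtorus. -/
theorem exists_torus_lift {R : Type u} [CommRing R] (J : Ideal R) (hJ : IsNilpotent J)
    (G : Over (Spec (CommRingCat.of R))) [GrpObj G] [Smooth G.hom]
    (H₀ : Over (Spec (CommRingCat.of (R ⧸ J)))) [GrpObj H₀] (hT₀ : Red.IsTorus H₀)
    (j₀ : H₀ ⟶ Red.bc (Spec.map (CommRingCat.ofHom (Ideal.Quotient.mk J))) G) [IsMonHom j₀] [IsImmersion j₀.left] :
    ∃ (H : Over (Spec (CommRingCat.of R))) (_ : GrpObj H) (j : H ⟶ G), IsMonHom j ∧ Mono j ∧ Red.IsTorus H ∧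
      ∃ φ : Red.bc (Spec.map (CommRingCat.ofHom (Ideal.Quotient.mk J))) H ≅ H₀,
        φ.hom ≫ j₀ = (Over.pullback (Spec.map (CommRingCat.ofHom (Ideal.Quotient.mk J)))).map j := by
  classical
  let q := Spec.map (CommRingCat.ofHom (Ideal.Quotient.mk J))
  have hnil : ∀ x ∈ J, IsNilpotent x := fun x hx => by
    obtain ⟨n, hn⟩ := hJ
    exact ⟨n, by simpa [hn] using Ideal.pow_mem_pow hx n⟩
  obtain ⟨A₀, _, _, hA₀, ⟨e₀⟩⟩ :=
    GenMultType.exists_hopf_multType H₀ (GenMultType.of_multTypeFT (TorusQI.isMultTypeFT_of_isTorus hT₀))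
  let a₀ : sp (R ⧸ J) A₀ ≅ H₀ := (Grp.forget _).mapIso e₀
  haveI : Algebra.FiniteType (R ⧸ J) A₀ := by
    haveI : LocallyOfFiniteType (Red.bc q G).hom := inferInstanceAs (LocallyOfFiniteType (pullback.snd G.hom q))
    haveI : LocallyOfFiniteType H₀.hom := by rw [← Over.w j₀]; infer_instance
    haveI : IsIso a₀.hom.left := inferInstanceAs (IsIso ((Over.forget _).map a₀.hom))
    haveI h : LocallyOfFiniteType (sp (R ⧸ J) A₀).hom := by rw [← Over.w a₀.hom]; infer_instance
    exact RingHom.finiteType_algebraMap.1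
      ((HasRingHomProperty.Spec_iff (P := @LocallyOfFiniteType)).1 h)
  obtain ⟨A, _, _, hAq, ⟨d⟩⟩ :=
    exists_quasiIsotrivial_lift J hnil A₀ (isQuasiIsotrivial_of_isMultType inferInstance hA₀)
  have hA := QuasiBasics.isMultType_of_quasi hAq
  haveI := QuasiBasics.flat_of_isMultType hA
  haveI : Algebra.FiniteType R A := by
    haveI : Algebra.FiniteType R ((R ⧸ J) ⊗[R] A) := by
      haveI : Algebra.FiniteType (R ⧸ J) ((R ⧸ J) ⊗[R] A) :=
        Algebra.FiniteType.equiv ‹Algebra.FiniteType (R ⧸ J) A₀› (d : _ ≃ₐ[R ⧸ J] A₀).symm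
      exact Algebra.FiniteType.trans (S := R ⧸ J) inferInstance inferInstance
    refine QuasiBasics.finiteType_of_nilpotent
      (Algebra.TensorProduct.includeRight : A →ₐ[R] (R ⧸ J) ⊗[R] A)
      (TensorProduct.mk_surjective R A (R ⧸ J) Ideal.Quotient.mk_surjective) J hJ fun x hx => ?_
    have h1 := congrArg (TensorProduct.quotTensorEquivQuotSMul A J) hx
    rw [map_zero] at h1
    have h2 : (Submodule.Quotient.mk x : A ⧸ (J • ⊤ : Submodule R A)) = 0 := by
      rw [← h1]
      exact (TensorProduct.quotTensorEquivQuotSMul_mk_one_tmul J x).symm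
    rw [Submodule.Quotient.mk_eq_zero, Ideal.smul_top_eq_map] at h2
    exact h2
  obtain ⟨e₁⟩ := nonempty_bc_sp (R := R) (R ⧸ J) A
  let e : Grp.mk (Red.bc q (sp R A)) ≅ Grp.mk H₀ := e₁ ≪≫ (spIso d).symm ≪≫ e₀
  let φ : Red.bc q (sp R A) ≅ H₀ := (Grp.forget _).mapIso e
  haveI : IsMonHom φ.hom := e.hom.hom.isMonHom_hom
  obtain ⟨j, hj, hjq⟩ := BaseChangeLift.exists_hom_lift_bc J hJ A hA G (φ.hom ≫ j₀)
  haveI := hj
  haveI : Surjective q :=
    ⟨(PrimeSpectrum.comap_quotientMk_bijective_of_le_nilradical fun x hx => mem_nilradical.mpr (hnil x hx)).2⟩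
  haveI : IsClosedImmersion q := IsClosedImmersion.spec_of_surjective _ Ideal.Quotient.mk_surjective
  haveI : LocallyOfFiniteType (sp R A).hom :=
    (HasRingHomProperty.Spec_iff (P := @LocallyOfFiniteType)).2 (RingHom.finiteType_algebraMap.2 inferInstance)
  haveI : LocallyOfFiniteType j.left := by
    haveI : LocallyOfFiniteType (j.left ≫ G.hom) := by rw [Over.w]; infer_instance
    exact locallyOfFiniteType_of_comp j.left G.hom
  haveI : IsImmersion j.left := by
    haveI : IsIso φ.hom.left := inferInstanceAs (IsIso ((Over.forget _).map φ.hom))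
    haveI : IsImmersion ((Over.pullback q).map j).left := by
      rw [hjq, Over.comp_left]; infer_instance
    exact ThickDeform.isImmersion_lift
      (⟨MorphismProperty.pullback_fst _ _ inferInstance, MorphismProperty.pullback_fst _ _ inferInstance⟩)
      (S5281.isPullback_fst q j)
  haveI : Mono j := (Over.forget _).mono_of_mono_map (inferInstanceAs (Mono j.left))
  refine ⟨sp R A, inferInstance, j, hj, inferInstance, isTorus_of_geom_split
    (MultTypeQI.isMultTypeFT_of_etale_locally fun s => MultTypeQI.etale_nhd_of_hopf inferInstance hA _ (Iso.refl _) s)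
    fun s => ?_, φ, hjq.symm⟩
  obtain ⟨s₀, rfl⟩ := q.surjective s
  obtain ⟨r, ⟨e'⟩⟩ := TorusQI.exists_split_geom hT₀ (Red.geomPt s₀)
  obtain ⟨e₂⟩ := MultTypeBC.bc_bc (Red.geomPt s₀) q (sp R A)
  obtain ⟨e₃⟩ := MultTypeBC.bc_iso (Red.geomPt s₀) e
  refine ⟨_, inferInstance, inferInstance, Red.geomPt s₀ ≫ q, r, ?_, ⟨e₂.symm ≪≫ e₃ ≪≫ e'⟩⟩
  rw [Scheme.Hom.comp_apply, TorusQI.geomPt_closedPoint]

end Groth.Agent.TorusArtin
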